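import Mathlib
import Cfsg.Agent.Lib.Helper63.MC.Defs

set_option autoImplicit false

/-! S3806 project "MC", package [BIN]. -/

namespace Cfsg.Agent.Lib.Helper27.MC

open Cfsg.Agent.Lib.Helper63.MC

universe u

section

variable {A : Type u} [CommGroup A] (σ : A →* A) (d : ℕ → A)

/-- (I) `σ^n (d m) = ∏_{l ≤ n} d (m+l) ^ choose n l`. -/
theorem iter_eq (hd : ∀ l, d (l + 1) = σ (d l) * (d l)⁻¹) :
    ∀ n m : ℕ, (⇑σ)^[n] (d m) = ∏ l ∈ Finset.range (n + 1), d (m + l) ^ (n.choose l) := by
  intro n
  induction n with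
  | zero => intro m; simp
  | succ n ih =>
    intro m
    have hσ : σ (d m) = d m * d (m + 1) := by rw [hd m]; simp [mul_comm]
    rw [Function.iterate_succ_apply, hσ, iterate_map_mul, ih m, ih (m + 1)]
    have h1 : ∏ l ∈ Finset.range (n + 1 + 1), d (m + l) ^ ((n + 1).choose l) =
        (∏ l ∈ Finset.range (n + 1), d (m + 1 + l) ^ (n.choose l)) *
          (∏ l ∈ Finset.range (n + 1), d (m + 1 + l) ^ (n.choose (l + 1))) * d m := by
      rw [Finset.prod_range_succ', ← Finset.prod_mul_distrib]
      congr 1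
      · apply Finset.prod_congr rfl
        intro l _
        have e : m + (l + 1) = m + 1 + l := by omega
        rw [Nat.choose_succ_succ, pow_add, e]
      · simp
    have h2 : ∏ l ∈ Finset.range (n + 1), d (m + l) ^ (n.choose l) =
        (∏ l ∈ Finset.range n, d (m + 1 + l) ^ (n.choose (l + 1))) * d m := by
      rw [Finset.prod_range_succ']
      congr 1
      · apply Finset.prod_congr rfl
        intro l _
        have e : m + (l + 1) = m + 1 + l := by omega
        rw [e]
      · simp
    have h3 : ∏ l ∈ Finset.range (n + 1), d (m + 1 + l) ^ (n.choose (l + 1)) =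
        ∏ l ∈ Finset.range n, d (m + 1 + l) ^ (n.choose (l + 1)) := by
      rw [Finset.prod_range_succ, Nat.choose_succ_self, pow_zero, mul_one]
    rw [h1, h2, h3]
    simp only [mul_comm, mul_left_comm]

/-- (II) `∏_{t<n} σ^t (d 0) = ∏_{l<n} d l ^ choose n (l+1)`. -/
theorem sum_iter_eq (hd : ∀ l, d (l + 1) = σ (d l) * (d l)⁻¹) :
    ∀ n : ℕ, ∏ t ∈ Finset.range n, (⇑σ)^[t] (d 0) =
      ∏ l ∈ Finset.range n, d l ^ (n.choose (l + 1)) := by
  intro n
  induction n with
  | zero => simp
  | succ n ih =>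
    rw [Finset.prod_range_succ, ih, iter_eq σ d hd n 0]
    have h1 : ∏ l ∈ Finset.range (n + 1), d l ^ ((n + 1).choose (l + 1)) =
        (∏ l ∈ Finset.range (n + 1), d l ^ (n.choose l)) *
          ∏ l ∈ Finset.range (n + 1), d l ^ (n.choose (l + 1)) := by
      rw [← Finset.prod_mul_distrib]
      apply Finset.prod_congr rfl
      intro l _
      rw [Nat.choose_succ_succ, pow_add]
    have h2 : ∏ l ∈ Finset.range (n + 1), d l ^ (n.choose (l + 1)) =
        ∏ l ∈ Finset.range n, d l ^ (n.choose (l + 1)) := by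
      rw [Finset.prod_range_succ, Nat.choose_succ_self, pow_zero, mul_one]
    rw [h1, h2]
    simp only [zero_add, mul_comm]

end

/-- Package [BIN]. -/
theorem pkgBinom : PkgBinom.{u} := by
  intro A _ σ p hp d hd hpow hlast
  rw [sum_iter_eq σ d hd p]
  rw [Finset.prod_eq_single 0]
  · simp
  · intro l hl hl0
    rw [Finset.mem_range] at hl
    by_cases hlp : l + 1 < p
    · obtain ⟨j, hj⟩ := hp.dvd_choose_self (Nat.succ_ne_zero l) hlp
      rw [hj, pow_mul, hpow l (Nat.one_le_iff_ne_zero.2 hl0), one_pow]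
    · have : l = p - 1 := by omega
      rw [this, hlast, one_pow]
  · intro h
    exact absurd (Finset.mem_range.2 hp.pos) h

end Cfsg.Agent.Lib.Helper27.MC
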