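import Mathlib
import Cfsg.Agent.Lib.Helper63.MC.Defs

set_option autoImplicit false

/-! S3806 project "MC", package [KL]. -/

namespace Cfsg.Agent.Lib.Helper27.MC

open Cfsg.Agent.Lib.Helper63.MC

universe u

/-- Package [KL]. -/
theorem pkgKL_of (h : PkgBinom.{u}) : PkgKL.{u} := by
  intro T _ A hAn hAc p hp x a hxa e he0 he0A hrec hpow hlast
  have heA : ∀ l, e l ∈ A := by
    intro l
    induction l with
    | zero => exact he0A
    | succ l ih =>
      rw [hrec l]
      exact A.mul_mem (hAn.conj_mem _ ih x) (A.inv_mem ih)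
  let _instA : CommGroup ↥A :=
    { (inferInstance : Group ↥A) with mul_comm := fun u v => Subtype.ext (hAc u u.2 v v.2) }
  let σ : ↥A →* ↥A := (MulAut.conjNormal x : MulAut ↥A).toMonoidHom
  have hσ : ∀ u : ↥A, ((σ u : ↥A) : T) = x * (u : T) * x⁻¹ :=
    fun u => MulAut.conjNormal_apply x u
  let d : ℕ → ↥A := fun l => ⟨e l, heA l⟩
  have hd : ∀ l, d (l + 1) = σ (d l) * (d l)⁻¹ := by
    intro l
    apply Subtype.ext
    have h1 : ((σ (d l) * (d l)⁻¹ : ↥A) : T) = x * e l * x⁻¹ * (e l)⁻¹ := by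
      rw [Subgroup.coe_mul, Subgroup.coe_inv, hσ]
    rw [h1]
    exact hrec l
  have hdp : ∀ l, 1 ≤ l → (d l) ^ p = 1 := by
    intro l hl
    apply Subtype.ext
    have h1 : (((d l) ^ p : ↥A) : T) = (e l) ^ p := Subgroup.coe_pow A (d l) p
    rw [h1]
    exact hpow l hl
  have hdl : d (p - 1) = 1 := Subtype.ext hlast
  have hbin := h ↥A σ p hp d hd hdp hdl
  have hclaim : ∀ i : ℕ, x ^ i * a * (x ^ i)⁻¹ =
      a * ((∏ t ∈ Finset.range i, (⇑σ)^[t] (d 0) : ↥A) : T) := by
    intro i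
    induction i with
    | zero => simp
    | succ i ih =>
      have h1 : x ^ (i + 1) * a * (x ^ (i + 1))⁻¹ = x * (x ^ i * a * (x ^ i)⁻¹) * x⁻¹ := by
        rw [pow_succ']; group
      have h2 : ∏ t ∈ Finset.range i, (⇑σ)^[t + 1] (d 0) =
          σ (∏ t ∈ Finset.range i, (⇑σ)^[t] (d 0)) := by
        rw [map_prod]
        apply Finset.prod_congr rfl
        intro t _
        rw [Function.iterate_succ_apply']
      rw [h1, ih, Finset.prod_range_succ', h2, mul_comm (σ _) _]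
      have h3 : (((⇑σ)^[0] (d 0) * σ (∏ t ∈ Finset.range i, (⇑σ)^[t] (d 0)) : ↥A) : T) =
          a⁻¹ * (x * a * x⁻¹) *
            (x * ((∏ t ∈ Finset.range i, (⇑σ)^[t] (d 0) : ↥A) : T) * x⁻¹) := by
        rw [Subgroup.coe_mul, hσ]
        congr 1
      rw [h3]
      group
  have h4 := hclaim p
  have h5 : x ^ p * a * (x ^ p)⁻¹ = a := by rw [hxa]; group
  rw [h5, hbin] at h4
  have h6 : (((d 0) ^ p : ↥A) : T) = 1 := by
    have := congrArg (fun z => a⁻¹ * z) h4
    simpa using this.symm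
  rw [Subgroup.coe_pow] at h6
  exact h6

end Cfsg.Agent.Lib.Helper27.MC
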