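import Mathlib
import Cfsg.Agent.Lib.Helper63.MC.Defs

set_option autoImplicit false

/-! S3806 project "MC", package [POW]. -/

namespace Cfsg.Agent.Lib.Helper27.MC

open Cfsg.Agent.Lib.Helper63.MC
open scoped commutatorElement

universe u

/-- Package [POW]. -/
theorem pkgPow_of (h : PkgStruct.{u}) : PkgPow.{u} := by
  intro T _ _ p _ k hk hcard hcl x hx
  have hp : p.Prime := Fact.out
  obtain ⟨hL, hpow⟩ := h T p (2 * k + 1) (by omega) hcard (by rw [hcl]; omega)
  have hz1 : x ^ p ∈ L T 1 := hpow x
  have key : ∀ i, 1 ≤ i → i ≤ k + 1 → x ^ p ∈ L T i := by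
    intro i hi1
    induction i, hi1 using Nat.le_induction with
    | base => intro _; exact hz1
    | succ i hi1 ih =>
      intro hik
      have hzi := ih (by omega)
      by_contra hnot
      apply hx i hi1 (by omega)
      rw [mem_K]
      intro a ha
      have hNn : (L T (i + 1)).Normal := inferInstance
      have hle : L T (i + 1) ≤ L T i := Subgroup.lowerCentralSeries_antitone _ (Nat.le_succ i)
      have hMle : Subgroup.zpowers (x ^ p) ⊔ L T (i + 1) ≤ L T i :=
        sup_le (Subgroup.zpowers_le.2 hzi) hle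
      have hc1 : Nat.card (L T i) = p ^ (2 * k + 1 - 1 - i) := hL i hi1 (by omega)
      have hc2 : Nat.card (L T (i + 1)) = p ^ (2 * k + 1 - 1 - (i + 1)) :=
        hL (i + 1) (by omega) (by omega)
      have hMeq : Subgroup.zpowers (x ^ p) ⊔ L T (i + 1) = L T i := by
        apply Subgroup.eq_of_le_of_card_ge hMle
        have hd : Nat.card (Subgroup.zpowers (x ^ p) ⊔ L T (i + 1) : Subgroup T) ∣
            p ^ (2 * k + 1 - 1 - i) := hc1 ▸ Subgroup.card_dvd_of_le hMle
        obtain ⟨j, hj, hjc⟩ := (Nat.dvd_prime_pow hp).1 hd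
        have hd2 : p ^ (2 * k + 1 - 1 - (i + 1)) ∣
            Nat.card (Subgroup.zpowers (x ^ p) ⊔ L T (i + 1) : Subgroup T) :=
          hc2 ▸ Subgroup.card_dvd_of_le le_sup_right
        rw [hjc] at hd2
        have hj2 : 2 * k + 1 - 1 - (i + 1) ≤ j := (Nat.pow_dvd_pow_iff_le_right hp.one_lt).1 hd2
        have hj3 : j ≠ 2 * k + 1 - 1 - (i + 1) := by
          intro hje
          apply hnot
          have heq : L T (i + 1) = Subgroup.zpowers (x ^ p) ⊔ L T (i + 1) := by
            apply Subgroup.eq_of_le_of_card_ge le_sup_right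
            rw [hjc, hc2, hje]
          rw [heq]
          exact le_sup_left (a := Subgroup.zpowers (x ^ p)) (Subgroup.mem_zpowers _)
        rw [hc1, hjc]
        have : j = 2 * k + 1 - 1 - i := by omega
        rw [this]
      have ha' : a ∈ (↑(Subgroup.zpowers (x ^ p) ⊔ L T (i + 1)) : Set T) := by
        rw [hMeq]; exact ha
      rw [Subgroup.mul_normal, Set.mem_mul] at ha'
      obtain ⟨g, hg, b, hb, rfl⟩ := ha'
      have hxg : x * g = g * x := by
        obtain ⟨j, rfl⟩ := Subgroup.mem_zpowers_iff.1 hg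
        have c1 : Commute x (x ^ p) := (Commute.refl x).pow_right p
        exact (c1.zpow_right j).eq
      have he : (g * b)⁻¹ * (x * (g * b) * x⁻¹) = ⁅b⁻¹, x⁆ := by
        rw [commutatorElement_def]
        have : x * (g * b) * x⁻¹ = g * (x * b * x⁻¹) := by
          rw [← mul_assoc x g b, hxg]; group
        rw [this]; group
      rw [he]
      show ⁅b⁻¹, x⁆ ∈ ⁅L T (i + 1), (⊤ : Subgroup T)⁆
      exact Subgroup.commutator_mem_commutator (Subgroup.inv_mem _ hb) (Subgroup.mem_top x)
  exact key (k + 1) (by omega) le_rfl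

end Cfsg.Agent.Lib.Helper27.MC
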